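import Cfsg.Agent.SL2Pres.Odd
import Cfsg.Agent.StPres.RankN
import Mathlib.LinearAlgebra.Matrix.Transvection

/-!
The consequences of the relations of `SL₃`.
-/

set_option autoImplicit false
set_option linter.unusedSectionVars false
set_option linter.unusedSimpArgs false
set_option linter.style.haveILetI false

namespace CfsgLib.SL3Pres

open Polynomial CfsgLib.SL2Pres
open Multiplicative (ofAdd)

section General

variable {p : ℕ} [Fact p.Prime] {F : Type*} [Field F] [Algebra (ZMod p) F]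

/-- an additive subgroup stable under a generator is everything -/
theorem all_of_stable {y : F} (hy : Algebra.adjoin (ZMod p) {y} = ⊤) (S : AddSubgroup F)
    (h1 : (1 : F) ∈ S) (hmul : ∀ t ∈ S, y * t ∈ S) (t : F) : t ∈ S := by
  have hpow : ∀ k : ℕ, y ^ k ∈ S := by
    intro k
    induction k with
    | zero => rwa [pow_zero]
    | succ k ih => rw [pow_succ']; exact hmul _ ih
  have ht : t ∈ (aeval y : (ZMod p)[X] →ₐ[ZMod p] F).range := by
    rw [← Algebra.adjoin_singleton_eq_range_aeval, hy]; trivial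
  obtain ⟨f, rfl⟩ := ht
  show aeval y f ∈ S
  rw [aeval_eq_sum_range]
  refine sum_mem fun i _ => ?_
  rw [← ZMod.natCast_zmod_val (f.coeff i), Nat.cast_smul_eq_nsmul]
  exact S.nsmul_mem (hpow i) _

/-- an element commuting with `h` acts by a weight on all of the root group -/
theorem weight_all {G : Type*} [Group G] (ι : Multiplicative F →* G) {h k : G} (hk : h * k = k * h)
    {x l : F} (hx : Algebra.adjoin (ZMod p) {x} = ⊤)
    (hh : ∀ t, h * ι (ofAdd t) * h⁻¹ = ι (ofAdd (x * t)))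
    (h1 : k * ι (ofAdd 1) * k⁻¹ = ι (ofAdd l)) (t : F) :
    k * ι (ofAdd t) * k⁻¹ = ι (ofAdd (l * t)) := by
  let S : AddSubgroup F :=
    { carrier := {t | k * ι (ofAdd t) * k⁻¹ = ι (ofAdd (l * t))}
      add_mem' := fun {a b} ha hb => by
        show k * ι (ofAdd (a + b)) * k⁻¹ = _
        rw [← mul_ι, mul_add, ← mul_ι, ← ha, ← hb]; group
      zero_mem' := by show k * ι (ofAdd 0) * k⁻¹ = _; simp
      neg_mem' := fun {a} ha => by
        show k * ι (ofAdd (-a)) * k⁻¹ = _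
        rw [ofAdd_neg, map_inv, mul_neg, ofAdd_neg, map_inv, ← ha]; group }
  refine all_of_stable hx S (by show _ = _; rw [mul_one]; exact h1) (fun a ha => ?_) t
  show k * ι (ofAdd (x * a)) * k⁻¹ = ι (ofAdd (l * (x * a)))
  rw [← hh, mul_left_comm, ← hh, ← (ha : k * ι (ofAdd a) * k⁻¹ = _)]
  calc k * (h * ι (ofAdd a) * h⁻¹) * k⁻¹ = (k * h) * ι (ofAdd a) * (k * h)⁻¹ := by group
    _ = (h * k) * ι (ofAdd a) * (h * k)⁻¹ := by rw [hk]
    _ = _ := by group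

end General

/-- the action of the Weyl element on the second torus element -/
theorem weyl_torus {G : Type*} [Group G] {h w c : G} (hw : w * h * w⁻¹ = h⁻¹) {k : ℤ}
    (hw2 : w * w = h ^ k) (hc : c * c * c = 1) (hrw : c * w⁻¹ * (c * w⁻¹) = 1)
    (hcomm : h * (c * h * c⁻¹) = c * h * c⁻¹ * h)
    (hprod : h * (c * h * c⁻¹) * (c⁻¹ * h * c) = 1) :
    w * (c * h * c⁻¹) * w⁻¹ = h * (c * h * c⁻¹) := by
  have e1 : w⁻¹ * c = c⁻¹ * w := by
    calc w⁻¹ * c = c⁻¹ * (c * w⁻¹ * (c * w⁻¹)) * w := by group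
      _ = _ := by rw [hrw, mul_one]
  have e2 : w * c = (w * w) * c⁻¹ * w := by rw [mul_assoc (w * w), ← e1]; group
  have e3 : Commute (c⁻¹ * h * c) h := by
    have hcc : c⁻¹ = c * c := inv_eq_of_mul_eq_one_right (by rw [← mul_assoc, hc])
    show c⁻¹ * h * c * h = h * (c⁻¹ * h * c)
    calc c⁻¹ * h * c * h = c⁻¹ * (h * (c * h * c⁻¹)) * c := by group
      _ = c⁻¹ * (c * h * c⁻¹ * h) * c := by rw [hcomm]
      _ = _ := by group
  have e4 : h * (c * h * c⁻¹) = (c⁻¹ * h * c)⁻¹ := eq_inv_of_mul_eq_one_left hprod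
  calc w * (c * h * c⁻¹) * w⁻¹ = (w * c) * h * (w * c)⁻¹ := by group
    _ = (w * w) * (c⁻¹ * (w * h * w⁻¹) * c) * (w * w)⁻¹ := by rw [e2]; group
    _ = h ^ k * (c⁻¹ * h * c)⁻¹ * (h ^ k)⁻¹ := by rw [hw, hw2]; group
    _ = _ := by
        rw [e4, ((e3.zpow_right k).inv_left).symm.eq]; group

/-- the data -/
structure Data (F : Type*) [Field F] (G : Type*) [Group G] (g : Fˣ) where
  /-- the rank one subgroup -/
  φ : Matrix.SpecialLinearGroup (Fin 2) F →* G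
  /-- the rotation -/
  c : G
  hc : c * c * c = 1
  rw' : c * (φ wSL)⁻¹ * (c * (φ wSL)⁻¹) = 1
  comm : φ (hSL g) * (c * φ (hSL g) * c⁻¹) = c * φ (hSL g) * c⁻¹ * φ (hSL g)
  prod : φ (hSL g) * (c * φ (hSL g) * c⁻¹) * (c⁻¹ * φ (hSL g) * c) = 1
  weight : c * φ (hSL g) * c⁻¹ * φ (ιSL (ofAdd 1)) * (c * φ (hSL g) * c⁻¹)⁻¹ =
    φ (ιSL (ofAdd ((g⁻¹ : Fˣ) : F)))

namespace Data

variable {p : ℕ} [Fact p.Prime] {F : Type*} [Field F] [Algebra (ZMod p) F] {G : Type*} [Group G]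
  {g : Fˣ} (R : Data F G g)

/-- the upper root group -/
def a (t : F) : G := R.φ (ιSL (ofAdd t))

/-- the lower root group -/
def b (t : F) : G := R.φ (StPres.low t)

/-- the third root group -/
def d (t : F) : G := R.c⁻¹ * R.b t * R.c

/-- the second root group -/
def e (t : F) : G := R.c * R.a t * R.c⁻¹

theorem a_add (s t : F) : R.a s * R.a t = R.a (s + t) := by rw [a, a, ← map_mul, mul_ι]; rfl

theorem b_add (s t : F) : R.b s * R.b t = R.b (s + t) := by rw [b, b, ← map_mul, StPres.low_add]; rfl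

theorem d_add (s t : F) : R.d s * R.d t = R.d (s + t) := by
  rw [d, d, d, ← R.b_add]; group

theorem e_add (s t : F) : R.e s * R.e t = R.e (s + t) := by
  rw [e, e, e, ← R.a_add]; group

theorem a_zero : R.a 0 = 1 := by simp [a]

theorem b_eq (t : F) : R.b t = R.φ wSL * R.a (-t) * (R.φ wSL)⁻¹ := by
  rw [b, a, ← wSL_low, map_mul, map_mul, map_inv]

theorem d_zero : R.d 0 = 1 := by rw [d, b_eq, neg_zero, a_zero]; group

theorem e_zero : R.e 0 = 1 := by rw [e, a_zero]; group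

theorem h_a (t : F) : R.φ (hSL g) * R.a t * (R.φ (hSL g))⁻¹ = R.a ((g : F) ^ 2 * t) := by
  rw [a, a, ← map_inv, ← map_mul, ← map_mul, hSL_conj]

theorem h_b (t : F) : R.φ (hSL g) * R.b t * (R.φ (hSL g))⁻¹ = R.b (((g⁻¹ : Fˣ) : F) ^ 2 * t) := by
  rw [b, b, ← map_inv, ← map_mul, ← map_mul]
  congr 1
  rw [mul_inv_eq_iff_eq_mul]
  refine Subtype.ext ?_
  simp only [Matrix.SpecialLinearGroup.coe_mul, hSL_val,
    show ∀ s : F, (StPres.low s).1 = !![1, 0; s, 1] from fun s => rfl]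
  ext i j
  fin_cases i <;> fin_cases j <;> simp [Matrix.mul_apply, Fin.sum_univ_two] <;> field_simp

variable (hx : Algebra.adjoin (ZMod p) {(g : F) ^ 2} = ⊤)
include hx

theorem h1_a (t : F) : R.c * R.φ (hSL g) * R.c⁻¹ * R.a t * (R.c * R.φ (hSL g) * R.c⁻¹)⁻¹ =
    R.a (((g⁻¹ : Fˣ) : F) * t) :=
  weight_all (R.φ.comp ιSL) R.comm hx (fun s => R.h_a s) R.weight t

theorem h2_a (t : F) : R.c⁻¹ * R.φ (hSL g) * R.c * R.a t * (R.c⁻¹ * R.φ (hSL g) * R.c)⁻¹ =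
    R.a (((g⁻¹ : Fˣ) : F) * t) := by
  have e4 : R.c⁻¹ * R.φ (hSL g) * R.c = (R.φ (hSL g) * (R.c * R.φ (hSL g) * R.c⁻¹))⁻¹ :=
    eq_inv_of_mul_eq_one_right R.prod
  set h := R.φ (hSL g)
  set k := R.c * h * R.c⁻¹
  have h3 : (h * k) * R.a (((g⁻¹ : Fˣ) : F) * t) * (h * k)⁻¹ = R.a t := by
    calc (h * k) * R.a (((g⁻¹ : Fˣ) : F) * t) * (h * k)⁻¹
        = h * (k * R.a (((g⁻¹ : Fˣ) : F) * t) * k⁻¹) * h⁻¹ := by group
      _ = _ := by
        rw [R.h1_a hx, R.h_a]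
        congr 1
        rw [Units.val_inv_eq_inv_val]
        field_simp
  rw [e4, ← h3]; group

theorem h1_b (hw2 : ∃ k : ℤ, R.φ wSL * R.φ wSL = R.φ (hSL g) ^ k) (t : F) :
    R.c * R.φ (hSL g) * R.c⁻¹ * R.b t * (R.c * R.φ (hSL g) * R.c⁻¹)⁻¹ = R.b ((g : F) * t) := by
  obtain ⟨k, hk⟩ := hw2
  have hw : R.φ wSL * R.φ (hSL g) * (R.φ wSL)⁻¹ = (R.φ (hSL g))⁻¹ := by
    rw [← map_inv, ← map_mul, ← map_mul, wSL_conj, map_inv]
  have hwh1 := weyl_torus hw hk R.hc R.rw' R.comm R.prod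
  set w := R.φ wSL with hwdef
  set h := R.φ (hSL g) with hhdef
  set h1 := R.c * h * R.c⁻¹
  have e2 : w⁻¹ * h1 * w = h * h1 := by
    have hc' : Commute h h1 := R.comm
    calc w⁻¹ * h1 * w = (w * w)⁻¹ * (w * h1 * w⁻¹) * (w * w) := by group
      _ = _ := by
        rw [hwh1, hk, ← zpow_neg,
          (((Commute.refl h).mul_right hc').zpow_left (-k)).eq, zpow_neg, inv_mul_cancel_right]
  rw [R.b_eq, R.b_eq]
  calc h1 * (w * R.a (-t) * w⁻¹) * h1⁻¹
      = w * ((w⁻¹ * h1 * w) * R.a (-t) * (w⁻¹ * h1 * w)⁻¹) * w⁻¹ := by group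
    _ = w * (h * (h1 * R.a (-t) * h1⁻¹) * h⁻¹) * w⁻¹ := by rw [e2]; group
    _ = _ := by
      rw [R.h1_a hx, R.h_a]
      congr 3
      rw [Units.val_inv_eq_inv_val]
      field_simp

variable (hw2 : ∃ k : ℤ, R.φ wSL * R.φ wSL = R.φ (hSL g) ^ k)
include hw2

theorem h_d (t : F) : R.φ (hSL g) * R.d t * (R.φ (hSL g))⁻¹ = R.d ((g : F) * t) := by
  rw [d, d, ← R.h1_b hx hw2]
  group

theorem h2_b (t : F) : R.c⁻¹ * R.φ (hSL g) * R.c * R.b t * (R.c⁻¹ * R.φ (hSL g) * R.c)⁻¹ =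
    R.b ((g : F) * t) := by
  have e4 : R.c⁻¹ * R.φ (hSL g) * R.c = (R.φ (hSL g) * (R.c * R.φ (hSL g) * R.c⁻¹))⁻¹ :=
    eq_inv_of_mul_eq_one_right R.prod
  set h := R.φ (hSL g)
  set k := R.c * h * R.c⁻¹
  have h3 : (h * k) * R.b ((g : F) * t) * (h * k)⁻¹ = R.b t := by
    calc (h * k) * R.b ((g : F) * t) * (h * k)⁻¹
        = h * (k * R.b ((g : F) * t) * k⁻¹) * h⁻¹ := by group
      _ = _ := by
        rw [R.h1_b hx hw2, R.h_b]
        congr 1
        rw [Units.val_inv_eq_inv_val]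
        field_simp
  rw [e4, ← h3]; group

theorem h1_d (t : F) : R.c * R.φ (hSL g) * R.c⁻¹ * R.d t * (R.c * R.φ (hSL g) * R.c⁻¹)⁻¹ =
    R.d ((g : F) * t) := by
  rw [d, d, ← R.h2_b hx hw2]
  have hcc : R.c⁻¹ * R.c⁻¹ = R.c := by
    calc R.c⁻¹ * R.c⁻¹ = R.c⁻¹ * R.c⁻¹ * (R.c * R.c * R.c) := by rw [R.hc, mul_one]
      _ = R.c := by group
  set h := R.φ (hSL g)
  set z := R.b t
  calc R.c * h * R.c⁻¹ * (R.c⁻¹ * z * R.c) * (R.c * h * R.c⁻¹)⁻¹
      = R.c * h * (R.c⁻¹ * R.c⁻¹) * z * (R.c⁻¹ * R.c⁻¹)⁻¹ * h⁻¹ * R.c⁻¹ := by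
        simp only [mul_inv_rev, inv_inv, mul_assoc]
    _ = (R.c⁻¹ * R.c⁻¹) * h * R.c * z * R.c⁻¹ * h⁻¹ * (R.c⁻¹ * R.c⁻¹)⁻¹ := by rw [hcc]
    _ = _ := by simp only [mul_inv_rev, inv_inv, mul_assoc]

omit hw2 in
theorem h_e (t : F) : R.φ (hSL g) * R.e t * (R.φ (hSL g))⁻¹ = R.e (((g⁻¹ : Fˣ) : F) * t) := by
  rw [e, e, ← R.h2_a hx]
  group

omit hw2 in
theorem h1_e (t : F) : R.c * R.φ (hSL g) * R.c⁻¹ * R.e t * (R.c * R.φ (hSL g) * R.c⁻¹)⁻¹ =
    R.e ((g : F) ^ 2 * t) := by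
  rw [e, e, ← R.h_a]
  group

/-- the basic commutator at all parameters, from the parameters with `u = 1` -/
theorem near_all (hgen : ∀ t : F, t ≠ 0 → ∃ k : ℕ, t = (g : F) ^ k)
    (hN : ∀ t, R.a t * R.e 1 = R.d t * R.e 1 * R.a t) (t u : F) :
    R.a t * R.e u = R.d (t * u) * R.e u * R.a t := by
  have key : ∀ k : ℕ, ∀ t, R.a t * R.e (((g⁻¹ : Fˣ) : F) ^ k) =
      R.d (t * ((g⁻¹ : Fˣ) : F) ^ k) * R.e (((g⁻¹ : Fˣ) : F) ^ k) * R.a t := by
    intro k
    induction k with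
    | zero => intro t; rw [pow_zero, mul_one]; exact hN t
    | succ k ih =>
      intro t
      have h1 := ih ((((g⁻¹ : Fˣ) : F) ^ 2) * t)
      have h2 := congrArg (fun z => R.φ (hSL g) * z * (R.φ (hSL g))⁻¹) h1
      simp only [conj_mul, R.h_a, R.h_d hx hw2, R.h_e hx] at h2
      have e1 : (g : F) ^ 2 * (((g⁻¹ : Fˣ) : F) ^ 2 * t) = t := by
        rw [← mul_assoc, ← mul_pow, Units.mul_inv, one_pow, one_mul]
      have e2 : (g : F) * (((g⁻¹ : Fˣ) : F) ^ 2 * t * ((g⁻¹ : Fˣ) : F) ^ k) =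
          t * ((g⁻¹ : Fˣ) : F) ^ (k + 1) := by
        rw [show (g : F) * (((g⁻¹ : Fˣ) : F) ^ 2 * t * ((g⁻¹ : Fˣ) : F) ^ k) =
          ((g : F) * ((g⁻¹ : Fˣ) : F)) * (t * ((g⁻¹ : Fˣ) : F) ^ (k + 1)) by ring, Units.mul_inv,
          one_mul]
      rw [e1, e2, ← pow_succ'] at h2
      exact h2
  by_cases hu : u = 0
  · subst hu; rw [mul_zero, R.e_zero, R.d_zero, mul_one, one_mul, one_mul]
  obtain ⟨k, hk⟩ := hgen u⁻¹ (inv_ne_zero hu)
  have : u = ((g⁻¹ : Fˣ) : F) ^ k := by rw [Units.val_inv_eq_inv_val, inv_pow, ← hk, inv_inv]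
  rw [this]; exact key k t
  where
  conj_mul : ∀ {h x y : G}, h * (x * y) * h⁻¹ = (h * x * h⁻¹) * (h * y * h⁻¹) := fun {h x y} => by group

/-- the commutation relation at all parameters -/
theorem far_all (hgen : ∀ t : F, t ≠ 0 → ∃ k : ℕ, t = (g : F) ^ k)
    (h3 : Algebra.adjoin (ZMod p) {(g : F) ^ 3} = ⊤)
    (hF : Commute (R.a 1) (R.d 1)) (t u : F) : Commute (R.a t) (R.d u) := by
  have hh : ∀ t u, Commute (R.a t) (R.d u) → Commute (R.a ((g : F) ^ 2 * t)) (R.d ((g : F) * u)) :=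
    fun t u h => by
      rw [← R.h_a, ← R.h_d hx hw2]
      exact h.map (MulAut.conj (R.φ (hSL g))).toMonoidHom
  have hk : ∀ t u, Commute (R.a t) (R.d u) →
      Commute (R.a (((g⁻¹ : Fˣ) : F) * t)) (R.d ((g : F) * u)) := fun t u h => by
    rw [← R.h1_a hx, ← R.h1_d hx hw2]
    exact h.map (MulAut.conj (R.c * R.φ (hSL g) * R.c⁻¹)).toMonoidHom
  have hk' : ∀ t u, Commute (R.a t) (R.d u) →
      Commute (R.a ((g : F) * t)) (R.d (((g⁻¹ : Fˣ) : F) * u)) := fun t u h => by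
    have h' := h.map (MulAut.conj (R.c * R.φ (hSL g) * R.c⁻¹)⁻¹).toMonoidHom
    simp only [MulEquiv.toMonoidHom_eq_coe, MonoidHom.coe_coe, MulAut.conj_apply, inv_inv] at h'
    have e1 := R.h1_a hx ((g : F) * t)
    rw [← mul_assoc, Units.inv_mul, one_mul] at e1
    have e2 := R.h1_d hx hw2 (((g⁻¹ : Fˣ) : F) * u)
    rw [← mul_assoc, Units.mul_inv, one_mul] at e2
    rw [← e1, ← e2] at h'
    simpa [mul_assoc] using h'
  have hgg : (g : F) * ((g⁻¹ : Fˣ) : F) = 1 := Units.mul_inv g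
  have T : ∀ t, Commute (R.a t) (R.d 1) := by
    intro t
    let S : AddSubgroup F :=
      { carrier := {t | Commute (R.a t) (R.d 1)}
        add_mem' := fun {x y} hx hy => by
          show Commute (R.a (x + y)) _
          rw [← R.a_add]; exact hx.mul_left hy
        zero_mem' := by show Commute (R.a 0) _; rw [R.a_zero]; exact Commute.one_left _
        neg_mem' := fun {x} hx => by
          show Commute (R.a (-x)) _
          rw [show R.a (-x) = (R.a x)⁻¹ by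
            rw [eq_inv_iff_mul_eq_one, R.a_add, neg_add_cancel, R.a_zero]]
          exact hx.inv_left }
    refine all_of_stable h3 S hF (fun x hx' => ?_) t
    show Commute (R.a ((g : F) ^ 3 * x)) (R.d 1)
    have := hk' _ _ (hh _ _ (show Commute (R.a x) (R.d 1) from hx'))
    rwa [mul_one, mul_comm ((g⁻¹ : Fˣ) : F), hgg, ← mul_assoc, ← pow_succ'] at this
  have key : ∀ k : ℕ, ∀ t, Commute (R.a t) (R.d ((g : F) ^ k)) := by
    intro k
    induction k with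
    | zero => intro t; rw [pow_zero]; exact T t
    | succ k ih =>
      intro t
      have h1 := hh _ _ (ih (((g⁻¹ : Fˣ) : F) ^ 2 * t))
      rwa [← mul_assoc, ← mul_pow, hgg, one_pow, one_mul, ← pow_succ'] at h1
  by_cases hu : u = 0
  · subst hu; rw [R.d_zero]; exact Commute.one_right _
  obtain ⟨k, rfl⟩ := hgen u hu
  exact key k t

/-- the basic commutator at all first parameters, from one and the commutation -/
theorem near_one (hfar : ∀ t u, Commute (R.a t) (R.d u)) (h3 : Algebra.adjoin (ZMod p) {(g : F) ^ 3} = ⊤)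
    (hN1 : R.a 1 * R.e 1 = R.d 1 * R.e 1 * R.a 1) (t : F) :
    R.a t * R.e 1 = R.d t * R.e 1 * R.a t := by
  let S : AddSubgroup F :=
    { carrier := {t | R.a t * R.e 1 = R.d t * R.e 1 * R.a t}
      add_mem' := fun {x y} hx hy => by
        show R.a (x + y) * R.e 1 = _
        calc R.a (x + y) * R.e 1 = R.a x * (R.a y * R.e 1) := by rw [← R.a_add]; group
          _ = R.a x * R.d y * R.e 1 * R.a y := by rw [hy]; group
          _ = R.d y * (R.a x * R.e 1) * R.a y := by rw [(hfar x y).eq]; group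
          _ = (R.d y * R.d x) * R.e 1 * (R.a x * R.a y) := by rw [hx]; group
          _ = _ := by rw [R.d_add, R.a_add, add_comm y x]
      zero_mem' := by show R.a 0 * R.e 1 = _; simp [R.a_zero, R.d_zero]
      neg_mem' := fun {x} hx => by
        show R.a (-x) * R.e 1 = _
        have e1 : R.e 1 = R.a x * (R.d (-x) * R.e 1 * R.a (-x)) := by
          calc R.e 1 = (R.d (-x) * R.d x) * R.e 1 * (R.a x * R.a (-x)) := by
                rw [R.d_add, R.a_add, neg_add_cancel, add_neg_cancel, R.d_zero, R.a_zero]; simp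
            _ = R.d (-x) * (R.a x * R.e 1) * R.a (-x) := by rw [hx]; group
            _ = (R.d (-x) * R.a x) * R.e 1 * R.a (-x) := by group
            _ = _ := by rw [← (hfar x (-x)).eq]; group
        calc R.a (-x) * R.e 1 = (R.a (-x) * R.a x) * (R.d (-x) * R.e 1 * R.a (-x)) := by
              conv_lhs => rw [e1]
              group
          _ = _ := by rw [R.a_add, neg_add_cancel, R.a_zero, one_mul] }
  refine all_of_stable h3 S hN1 (fun x hx' => ?_) t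
  -- conjugate by the product of `h²` and the second torus element
  show R.a ((g : F) ^ 3 * x) * R.e 1 = R.d ((g : F) ^ 3 * x) * R.e 1 * R.a ((g : F) ^ 3 * x)
  have h1 := congrArg (fun z => (R.c * R.φ (hSL g) * R.c⁻¹) *
    (R.φ (hSL g) * (R.φ (hSL g) * z * (R.φ (hSL g))⁻¹) * (R.φ (hSL g))⁻¹) *
    (R.c * R.φ (hSL g) * R.c⁻¹)⁻¹) (show R.a x * R.e 1 = R.d x * R.e 1 * R.a x from hx')
  simp only [conj_two, R.h_a, R.h_d hx hw2, R.h_e hx, R.h1_a hx, R.h1_d hx hw2, R.h1_e hx] at h1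
  have e1 : ((g⁻¹ : Fˣ) : F) * ((g : F) ^ 2 * ((g : F) ^ 2 * x)) = (g : F) ^ 3 * x := by
    rw [show ((g⁻¹ : Fˣ) : F) * ((g : F) ^ 2 * ((g : F) ^ 2 * x)) =
      (((g⁻¹ : Fˣ) : F) * (g : F)) * ((g : F) ^ 3 * x) by ring, Units.inv_mul, one_mul]
  have e2 : (g : F) ^ 2 * (((g⁻¹ : Fˣ) : F) * (((g⁻¹ : Fˣ) : F) * 1)) = 1 := by
    rw [show (g : F) ^ 2 * (((g⁻¹ : Fˣ) : F) * (((g⁻¹ : Fˣ) : F) * 1)) =
      ((g : F) * ((g⁻¹ : Fˣ) : F)) ^ 2 by ring, Units.mul_inv, one_pow]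
  have e3 : (g : F) * ((g : F) * ((g : F) * x)) = (g : F) ^ 3 * x := by ring
  rwa [e1, e2, e3] at h1
  where
  conj_two : ∀ {h x y : G}, h * (x * y) * h⁻¹ = (h * x * h⁻¹) * (h * y * h⁻¹) := fun {h x y} => by group

/-- the Weyl element on the second root group -/
theorem w_e (t : F) (hgen : ∀ t : F, t ≠ 0 → ∃ k : ℕ, t = (g : F) ^ k) :
    R.φ wSL * R.e t * (R.φ wSL)⁻¹ = R.d t := by
  obtain ⟨k, hk⟩ := hgen (-1) (neg_ne_zero.2 one_ne_zero)
  have hgk : g ^ k = -1 := Units.ext (by rw [Units.val_pow_eq_pow_val, ← hk]; simp)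
  have hw : R.φ wSL * R.φ wSL = R.φ (hSL g) ^ k := by
    rw [← map_mul, wSL_sq, ← map_pow, ← map_pow, hgk]
  have hpow : ∀ j : ℕ, ∀ s, R.φ (hSL g) ^ j * R.d s * (R.φ (hSL g) ^ j)⁻¹ = R.d ((g : F) ^ j * s) := by
    intro j
    induction j with
    | zero => intro s; simp
    | succ j ih =>
      intro s
      rw [pow_succ' (R.φ (hSL g)), pow_succ' (g : F), mul_assoc (g : F), ← R.h_d hx hw2, ← ih]
      group
  have e1 : (R.φ wSL)⁻¹ * R.c = R.c⁻¹ * R.φ wSL := by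
    calc (R.φ wSL)⁻¹ * R.c = R.c⁻¹ * (R.c * (R.φ wSL)⁻¹ * (R.c * (R.φ wSL)⁻¹)) * R.φ wSL := by group
      _ = _ := by rw [R.rw', mul_one]
  set w := R.φ wSL
  calc w * R.e t * w⁻¹ = (w * w) * ((w⁻¹ * R.c) * R.a t * (w⁻¹ * R.c)⁻¹) * (w * w)⁻¹ := by
        rw [e]; group
    _ = (w * w) * (R.c⁻¹ * (w * R.a t * w⁻¹) * R.c) * (w * w)⁻¹ := by rw [e1]; group
    _ = R.φ (hSL g) ^ k * R.d (-t) * (R.φ (hSL g) ^ k)⁻¹ := by
        rw [hw, d, R.b_eq, neg_neg]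
    _ = _ := by rw [hpow, ← hk, neg_one_mul, neg_neg]

omit hw2 hx in
/-- the Weyl element on the third root group -/
theorem w_d (t : F) : R.φ wSL * R.d t * (R.φ wSL)⁻¹ = R.e (-t) := by
  have e2 : R.φ wSL * R.c⁻¹ = R.c * (R.φ wSL)⁻¹ := by
    calc R.φ wSL * R.c⁻¹ = (R.c * (R.φ wSL)⁻¹ * (R.c * (R.φ wSL)⁻¹)) *
          (R.φ wSL * R.c⁻¹) := by rw [R.rw', one_mul]
      _ = _ := by group
  set w := R.φ wSL
  calc w * R.d t * w⁻¹ = (w * R.c⁻¹) * R.b t * (w * R.c⁻¹)⁻¹ := by rw [d]; group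
    _ = R.c * (w⁻¹ * R.b t * w) * R.c⁻¹ := by rw [e2]; group
    _ = _ := by rw [R.b_eq, e, show R.φ wSL = w from rfl]; group

/-- the second orientation -/
theorem near_two (hgen : ∀ t : F, t ≠ 0 → ∃ k : ℕ, t = (g : F) ^ k)
    (hN : ∀ t u, R.a t * R.e u = R.d (t * u) * R.e u * R.a t) (t u : F) :
    R.b t * R.d u = R.e (t * u) * R.d u * R.b t := by
  have h1 := congrArg (fun z => R.φ wSL * z * (R.φ wSL)⁻¹) (hN (-t) u)
  simp only [conj_two, R.w_e hx hw2 _ hgen, R.w_d, ← R.b_eq, neg_mul, neg_neg] at h1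
  exact h1
  where
  conj_two : ∀ {h x y : G}, h * (x * y) * h⁻¹ = (h * x * h⁻¹) * (h * y * h⁻¹) := fun {h x y} => by group

end Data

end CfsgLib.SL3Pres
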