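import Cfsg.Agent.SL2Pres.Target
import Mathlib.LinearAlgebra.Matrix.Transvection

/-!
The images of the generators in `SL₃`.
-/

set_option autoImplicit false
set_option linter.unusedSimpArgs false

namespace CfsgLib.SL3Pres

open Matrix CfsgLib.SL2Pres
open Multiplicative (ofAdd)

variable {F : Type*} [Field F]

local notation "S3" => SpecialLinearGroup (Fin 3) F

/-- the block embedding -/
def emb3 : SpecialLinearGroup (Fin 2) F →* SpecialLinearGroup (Fin 3) F where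
  toFun A := ⟨!![A.1 0 0, A.1 0 1, 0; A.1 1 0, A.1 1 1, 0; 0, 0, 1], by
    have h := A.2
    rw [Matrix.det_fin_two] at h
    simp [Matrix.det_fin_three]
    linear_combination h⟩
  map_one' := Subtype.ext (by
    ext i j
    fin_cases i <;> fin_cases j <;> simp)
  map_mul' A B := Subtype.ext (by
    show !![(A.1 * B.1) 0 0, (A.1 * B.1) 0 1, 0; (A.1 * B.1) 1 0, (A.1 * B.1) 1 1, 0; 0, 0, 1] =
      !![A.1 0 0, A.1 0 1, 0; A.1 1 0, A.1 1 1, 0; 0, 0, 1] *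
        !![B.1 0 0, B.1 0 1, 0; B.1 1 0, B.1 1 1, 0; 0, 0, 1]
    ext i j
    fin_cases i <;> fin_cases j <;> simp [Matrix.mul_apply, Fin.sum_univ_three, Fin.sum_univ_two])

/-- the cyclic permutation -/
def c3 : SpecialLinearGroup (Fin 3) F := ⟨!![0, 0, 1; 1, 0, 0; 0, 1, 0], by simp [Matrix.det_fin_three]⟩

theorem emb3_val (A : SpecialLinearGroup (Fin 2) F) :
    (emb3 A).1 = !![A.1 0 0, A.1 0 1, 0; A.1 1 0, A.1 1 1, 0; 0, 0, 1] := rfl

theorem emb3_up (t : F) : (emb3 (ιSL (ofAdd t))).1 = !![1, t, 0; 0, 1, 0; 0, 0, 1] := by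
  rw [emb3_val, ιSL_val]; simp

theorem emb3_h (g : Fˣ) :
    (emb3 (hSL g)).1 = !![(g : F), 0, 0; 0, ((g⁻¹ : Fˣ) : F), 0; 0, 0, 1] := by
  rw [emb3_val, hSL_val]; simp

theorem emb3_w : (emb3 (wSL : SpecialLinearGroup (Fin 2) F)).1 = !![0, 1, 0; -1, 0, 0; 0, 0, 1] := by
  rw [emb3_val, wSL_val]; simp

theorem emb3_low (t : F) : (emb3 (StPres.low t)).1 = !![1, 0, 0; t, 1, 0; 0, 0, 1] := by
  rw [emb3_val, show (StPres.low t).1 = !![1, 0; t, 1] from rfl]; simp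

theorem c3_val : (c3 : S3).1 = !![0, 0, 1; 1, 0, 0; 0, 1, 0] := rfl

theorem c3_cube : (c3 : S3) * c3 * c3 = 1 := by
  refine Subtype.ext ?_
  simp only [SpecialLinearGroup.coe_mul, SpecialLinearGroup.coe_one, c3_val]
  ext i j
  fin_cases i <;> fin_cases j <;> simp [Matrix.mul_apply, Fin.sum_univ_three]

theorem c3_inv : ((c3 : S3)⁻¹).1 = !![0, 1, 0; 0, 0, 1; 1, 0, 0] := by
  have h : (c3 : S3)⁻¹ = c3 * c3 := inv_eq_of_mul_eq_one_right (by rw [← mul_assoc, c3_cube])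
  rw [h, SpecialLinearGroup.coe_mul, c3_val]
  ext i j
  fin_cases i <;> fin_cases j <;> simp [Matrix.mul_apply, Fin.sum_univ_three]

theorem c3_conj_emb (A : SpecialLinearGroup (Fin 2) F) :
    (c3 * emb3 A * (c3 : S3)⁻¹).1 = !![1, 0, 0; 0, A.1 0 0, A.1 0 1; 0, A.1 1 0, A.1 1 1] := by
  simp only [SpecialLinearGroup.coe_mul, c3_val, c3_inv, emb3_val]
  ext i j
  fin_cases i <;> fin_cases j <;> simp [Matrix.mul_apply, Fin.sum_univ_three]

theorem c3_inv_conj_emb (A : SpecialLinearGroup (Fin 2) F) :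
    ((c3 : S3)⁻¹ * emb3 A * c3).1 = !![A.1 1 1, 0, A.1 1 0; 0, 1, 0; A.1 0 1, 0, A.1 0 0] := by
  simp only [SpecialLinearGroup.coe_mul, c3_val, c3_inv, emb3_val]
  ext i j
  fin_cases i <;> fin_cases j <;> simp [Matrix.mul_apply, Fin.sum_univ_three]

theorem rel_rw : c3 * (emb3 wSL : S3)⁻¹ * (c3 * (emb3 wSL : S3)⁻¹) = 1 := by
  have hw : ((emb3 wSL : S3)⁻¹).1 = !![0, -1, 0; 1, 0, 0; 0, 0, 1] := by
    have : (wSL : SpecialLinearGroup (Fin 2) F)⁻¹ = wSL * hSL (-1) := by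
      refine inv_eq_of_mul_eq_one_right ?_
      rw [← mul_assoc, wSL_sq, ← map_mul, neg_mul_neg, one_mul, map_one]
    rw [← map_inv, this, map_mul, SpecialLinearGroup.coe_mul, emb3_w, emb3_h]
    ext i j
    fin_cases i <;> fin_cases j <;> simp [Matrix.mul_apply, Fin.sum_univ_three]
  refine Subtype.ext ?_
  simp only [SpecialLinearGroup.coe_mul, SpecialLinearGroup.coe_one, c3_val, hw]
  ext i j
  fin_cases i <;> fin_cases j <;> simp [Matrix.mul_apply, Fin.sum_univ_three]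

theorem rel_torus (g : Fˣ) : emb3 (hSL g) * (c3 * emb3 (hSL g) * (c3 : S3)⁻¹) =
    c3 * emb3 (hSL g) * (c3 : S3)⁻¹ * emb3 (hSL g) := by
  refine Subtype.ext ?_
  rw [SpecialLinearGroup.coe_mul, SpecialLinearGroup.coe_mul (c3 * emb3 (hSL g) * (c3 : S3)⁻¹),
    c3_conj_emb, emb3_h, hSL_val]
  ext i j
  fin_cases i <;> fin_cases j <;> simp [Matrix.mul_apply, Fin.sum_univ_three, mul_comm]

theorem rel_prod (g : Fˣ) : emb3 (hSL g) * (c3 * emb3 (hSL g) * (c3 : S3)⁻¹) *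
    ((c3 : S3)⁻¹ * emb3 (hSL g) * c3) = 1 := by
  refine Subtype.ext ?_
  rw [SpecialLinearGroup.coe_mul, SpecialLinearGroup.coe_mul (emb3 (hSL g)),
    c3_conj_emb, c3_inv_conj_emb, emb3_h, hSL_val]
  ext i j
  fin_cases i <;> fin_cases j <;> simp [Matrix.mul_apply, Fin.sum_univ_three]

theorem rel_weight (g : Fˣ) : c3 * emb3 (hSL g) * (c3 : S3)⁻¹ * emb3 (ιSL (ofAdd 1)) =
    emb3 (ιSL (ofAdd ((g⁻¹ : Fˣ) : F))) * (c3 * emb3 (hSL g) * (c3 : S3)⁻¹) := by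
  refine Subtype.ext ?_
  rw [SpecialLinearGroup.coe_mul, SpecialLinearGroup.coe_mul (emb3 (ιSL _)), c3_conj_emb, emb3_up,
    emb3_up, hSL_val]
  ext i j
  fin_cases i <;> fin_cases j <;> simp [Matrix.mul_apply, Fin.sum_univ_three]

theorem rel_near (t : F) : emb3 (ιSL (ofAdd t)) * (c3 * emb3 (ιSL (ofAdd 1)) * (c3 : S3)⁻¹) =
    (c3 : S3)⁻¹ * emb3 (StPres.low t) * c3 * (c3 * emb3 (ιSL (ofAdd 1)) * (c3 : S3)⁻¹) *
      emb3 (ιSL (ofAdd t)) := by
  refine Subtype.ext ?_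
  rw [SpecialLinearGroup.coe_mul, SpecialLinearGroup.coe_mul _ (emb3 (ιSL _)),
    SpecialLinearGroup.coe_mul ((c3 : S3)⁻¹ * emb3 (StPres.low t) * c3), c3_conj_emb, c3_inv_conj_emb,
    emb3_up, ιSL_val, show (StPres.low t).1 = !![1, 0; t, 1] from rfl]
  ext i j
  fin_cases i <;> fin_cases j <;> simp [Matrix.mul_apply, Fin.sum_univ_three]

theorem rel_far : Commute (emb3 (ιSL (ofAdd (1 : F)))) ((c3 : S3)⁻¹ * emb3 (StPres.low 1) * c3) := by
  refine Subtype.ext ?_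
  rw [SpecialLinearGroup.coe_mul, SpecialLinearGroup.coe_mul _ (emb3 (ιSL _)), c3_inv_conj_emb, emb3_up,
    show (StPres.low (1 : F)).1 = !![1, 0; 1, 1] from rfl]
  ext i j
  fin_cases i <;> fin_cases j <;> simp [Matrix.mul_apply, Fin.sum_univ_three]

end CfsgLib.SL3Pres
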