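import Cfsg.Agent.SL3Pres.Main

/-!
The presentations of `SL₃` in all characteristics.
-/

set_option autoImplicit false
set_option linter.unusedSectionVars false
set_option linter.unusedSimpArgs false
set_option linter.style.haveILetI false

namespace CfsgLib.SL3Pres

open Polynomial CfsgLib.SL2Pres
open Multiplicative (ofAdd)

universe v

variable {p : ℕ} [Fact p.Prime] {F : Type v} [Field F] [Fintype F] [Algebra (ZMod p) F]

theorem ext_hom_SL2 {g : Fˣ} (hx : Algebra.adjoin (ZMod p) {(g : F) ^ 2} = ⊤) {T : Type*} [Group T]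
    (φ ψ : Matrix.SpecialLinearGroup (Fin 2) F →* T)
    (h1 : φ (ιSL (ofAdd (1 : F))) = ψ (ιSL (ofAdd (1 : F)))) (h2 : φ (hSL g) = ψ (hSL g))
    (h3 : φ wSL = ψ wSL) : φ = ψ := by
  have hK : φ.eqLocus ψ = ⊤ := by
    refine closure_images (MonoidHom.id _) Function.surjective_id (fun t => ?_) h3
    have hsurj : Function.Surjective (aeval ((g : F) ^ 2) : (ZMod p)[X] →ₐ[ZMod p] F) := by
      rw [← AlgHom.range_eq_top, ← Algebra.adjoin_singleton_eq_range_aeval, hx]
    obtain ⟨f, hf⟩ := hsurj t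
    show ιSL (ofAdd t) ∈ _
    rw [← hf, ← wd_eq ιSL (hSL g) _ (hSL_conj g) f]
    refine wd_mem _ (fun i => ?_) f
    rw [cj_natCast]
    exact mul_mem (mul_mem (pow_mem h2 i) h1) (inv_mem (pow_mem h2 i))
  exact MonoidHom.ext fun A => (hK ▸ Subgroup.mem_top A : A ∈ φ.eqLocus ψ)

theorem hw2_of {g : Fˣ} (hgen : ∀ t : F, t ≠ 0 → ∃ k : ℕ, t = (g : F) ^ k) {G : Type*} [Group G]
    (R : Data F G g) : ∃ k : ℤ, R.φ wSL * R.φ wSL = R.φ (hSL g) ^ k := by
  obtain ⟨k, hk⟩ := hgen (-1) (neg_ne_zero.2 one_ne_zero)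
  refine ⟨k, ?_⟩
  rw [zpow_natCast, ← map_mul, wSL_sq, ← map_pow, ← map_pow,
    show g ^ k = -1 from Units.ext (by rw [Units.val_pow_eq_pow_val, ← hk]; simp)]

/-- `SL₃` with its data -/
noncomputable def data3 (g : Fˣ) : Data F (Matrix.SpecialLinearGroup (Fin 3) F) g where
  φ := emb3
  c := c3
  hc := c3_cube
  rw' := rel_rw
  comm := rel_torus g
  prod := rel_prod g
  weight := mul_inv_eq_iff_eq_mul.2 (rel_weight g)

theorem nearRel_iff {g : Fˣ} {G : Type*} [Group G] (R : Data F G g) {t : F} {ft : (ZMod p)[X]}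
    (hft : aeval ((g : F) ^ 2) ft = t) :
    nearRel (R.φ (ιSL (ofAdd (1 : F)))) (R.φ (hSL g)) (R.φ wSL) R.c ft = 1 ↔
      R.a t * R.e 1 = R.d t * R.e 1 * R.a t := by
  have hA : wd (R.φ (ιSL (ofAdd (1 : F)))) (R.φ (hSL g)) ft = R.a t := by
    rw [← hft]
    exact wd_eq (R.φ.comp ιSL) (R.φ (hSL g)) ((g : F) ^ 2) (fun s => R.h_a s) ft
  have hneg : R.a (-t) = (R.a t)⁻¹ := by
    rw [eq_inv_iff_mul_eq_one, R.a_add, neg_add_cancel, R.a_zero]
  rw [nearRel, hA, ← hneg, ← R.b_eq, mul_inv_eq_one]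
  exact Iff.rfl

theorem farRel_iff {g : Fˣ} {G : Type*} [Group G] (R : Data F G g) :
    farRel (R.φ (ιSL (ofAdd (1 : F)))) (R.φ wSL) R.c = 1 ↔ Commute (R.a 1) (R.d 1) := by
  have hneg : R.a (-1) = (R.a 1)⁻¹ := by
    rw [eq_inv_iff_mul_eq_one, R.a_add, neg_add_cancel, R.a_zero]
  rw [farRel, show R.φ (ιSL (ofAdd (1 : F))) = R.a 1 from rfl, ← hneg, ← R.b_eq, mul_inv_eq_one]
  exact Iff.rfl

open scoped Classical in
/-- the relators for the mixed commutators -/
theorem exists_near_rels {n : ℕ} (hn : Fintype.card F = p ^ n) {g : Fˣ}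
    (hg : orderOf (g : F) = Fintype.card F - 1)
    (hgen : ∀ t : F, t ≠ 0 → ∃ k : ℕ, t = (g : F) ^ k) :
    ∃ X4 : List (FreeGroup (Fin 4)), X4.length ≤ (if Fintype.card F = 4 then 3 else 2) ∧
      (∀ r ∈ X4, FreeGroup.lift
        ![emb3 (ιSL (ofAdd (1 : F))), emb3 (hSL g), emb3 wSL, c3] r = 1) ∧
      ∀ (G : Type) [Group G] (R : Data F G g),
        (∀ r ∈ X4, FreeGroup.lift ![R.φ (ιSL (ofAdd (1 : F))), R.φ (hSL g), R.φ wSL, R.c] r = 1) →
        ∀ t, R.a t * R.e 1 = R.d t * R.e 1 * R.a t := by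
  have hx : Algebra.adjoin (ZMod p) {(g : F) ^ 2} = ⊤ := adjoin_sq hn hg
  have hsurj : Function.Surjective (aeval ((g : F) ^ 2) : (ZMod p)[X] →ₐ[ZMod p] F) := by
    rw [← AlgHom.range_eq_top, ← Algebra.adjoin_singleton_eq_range_aeval, hx]
  choose ft hft using hsurj
  let o : Fin 4 → FreeGroup (Fin 4) := FreeGroup.of
  let N : F → FreeGroup (Fin 4) := fun t => nearRel (o 0) (o 1) (o 2) (o 3) (ft t)
  let R3 := data3 g
  have hlift : ∀ {T : Type v} [Group T] (f : Fin 4 → T) (t : F),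
      FreeGroup.lift f (N t) = nearRel (f 0) (f 1) (f 2) (f 3) (ft t) := by
    intro T _ f t; rw [map_nearRel]; simp [o]
  have hliftG : ∀ {T : Type} [Group T] (f : Fin 4 → T) (t : F),
      FreeGroup.lift f (N t) = nearRel (f 0) (f 1) (f 2) (f 3) (ft t) := by
    intro T _ f t; rw [map_nearRel]; simp [o]
  have htrue : ∀ t : F, R3.a t * R3.e 1 = R3.d t * R3.e 1 * R3.a t := fun t => by
    show emb3 _ * (c3 * emb3 _ * c3⁻¹) = (c3 : Matrix.SpecialLinearGroup (Fin 3) F)⁻¹ * emb3 _ * c3 * _ * _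
    exact rel_near t
  have hNX : ∀ t : F, FreeGroup.lift
      ![emb3 (ιSL (ofAdd (1 : F))), emb3 (hSL g), emb3 wSL, c3] (N t) = 1 := fun t => by
    rw [hlift]
    exact (nearRel_iff R3 (hft t)).2 (htrue t)
  by_cases h4 : Fintype.card F = 4
  · refine ⟨[N 1, N (g : F), N ((g : F) ^ 2)], by simp [h4], ?_, ?_⟩
    · intro r hr
      simp only [List.mem_cons, List.not_mem_nil, or_false] at hr
      rcases hr with rfl | rfl | rfl <;> exact hNX _
    · intro G _ R hR t
      simp only [List.forall_mem_cons, hliftG] at hR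
      by_cases ht : t = 0
      · subst ht; simp [R.a_zero, R.d_zero]
      obtain ⟨k, rfl⟩ := hgen t ht
      rw [← pow_mod_orderOf (g : F) k, hg, h4]
      have : k % (4 - 1) < 3 := Nat.mod_lt _ (by norm_num)
      interval_cases hk : k % (4 - 1)
      · rw [pow_zero]; exact (nearRel_iff R (hft 1)).1 hR.1
      · rw [pow_one]; exact (nearRel_iff R (hft _)).1 hR.2.1
      · exact (nearRel_iff R (hft _)).1 hR.2.2.1
  · refine ⟨[N 1, farRel (o 0) (o 2) (o 3)], by simp [h4], ?_, ?_⟩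
    · intro r hr
      simp only [List.mem_cons, List.not_mem_nil, or_false] at hr
      rcases hr with rfl | rfl
      · exact hNX 1
      · rw [map_farRel]
        simp only [o, FreeGroup.lift_apply_of]
        exact (farRel_iff R3).2 rel_far
    · intro G _ R hR t
      simp only [List.forall_mem_cons, hliftG, map_farRel] at hR
      obtain ⟨h1, h2, -⟩ := hR
      simp only [o, FreeGroup.lift_apply_of] at h2
      have hw2 := hw2_of hgen R
      have h3 := adjoin_cube hn hg h4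
      exact R.near_one hx hw2 (R.far_all hx hw2 hgen h3 ((farRel_iff R).1 h2)) h3
        ((nearRel_iff R (hft 1)).1 h1) t

/-- the missing Steinberg relation, from the others and the rotation -/
theorem stRel_of_weight {G : Type*} [Group G] (ι : Multiplicative F →* G) {h w k : G} {g : Fˣ}
    (hι : ∀ t, h * ι (ofAdd t) * h⁻¹ = ι (ofAdd ((g : F) ^ 2 * t)))
    (hk : ∀ t, k * ι (ofAdd t) * k⁻¹ = ι (ofAdd (((g⁻¹ : Fˣ) : F) * t)))
    (hwh : w * h * w⁻¹ = h⁻¹) (hwk : w * k * w⁻¹ = h * k) (hhk : h * k = k * h)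
    (h1 : w * ι (ofAdd 1) * w⁻¹ = ι (ofAdd (-1)) * w * ι (ofAdd (-1))) :
    w * ι (ofAdd (g : F)) * w⁻¹ =
      ι (ofAdd (-((g⁻¹ : Fˣ) : F))) * h⁻¹ * w * ι (ofAdd (-((g⁻¹ : Fˣ) : F))) := by
  have hk' : ∀ t, k⁻¹ * ι (ofAdd t) * k = ι (ofAdd ((g : F) * t)) := fun t => by
    have := hk ((g : F) * t)
    rw [← mul_assoc, Units.inv_mul, one_mul] at this
    rw [← this]; group
  have hh' : ∀ t, h⁻¹ * ι (ofAdd t) * h = ι (ofAdd (((g⁻¹ : Fˣ) : F) ^ 2 * t)) := fun t => by
    have := hι (((g⁻¹ : Fˣ) : F) ^ 2 * t)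
    rw [← mul_assoc, ← mul_pow, Units.mul_inv, one_pow, one_mul] at this
    rw [← this]; group
  have e1 : k⁻¹ * w * k = h * w := by
    calc k⁻¹ * w * k = k⁻¹ * (w * k * w⁻¹) * w := by group
      _ = k⁻¹ * (k * h) * w := by rw [hwk, hhk]
      _ = _ := by group
  have hwh' : w * h = h⁻¹ * w := by rw [← hwh]; group
  have h2 := congrArg (fun z => k⁻¹ * z * k) h1
  rw [show k⁻¹ * (w * ι (ofAdd 1) * w⁻¹) * k =
      (k⁻¹ * w * k) * (k⁻¹ * ι (ofAdd 1) * k) * (k⁻¹ * w * k)⁻¹ by group,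
    show k⁻¹ * (ι (ofAdd (-1)) * w * ι (ofAdd (-1))) * k =
      (k⁻¹ * ι (ofAdd (-1)) * k) * (k⁻¹ * w * k) * (k⁻¹ * ι (ofAdd (-1)) * k) by group,
    e1, hk', hk', mul_one] at h2
  have e2 : ((g⁻¹ : Fˣ) : F) ^ 2 * ((g : F) * -1) = -((g⁻¹ : Fˣ) : F) := by
    rw [show ((g⁻¹ : Fˣ) : F) ^ 2 * ((g : F) * -1) =
      -(((g⁻¹ : Fˣ) : F) * (g : F) * ((g⁻¹ : Fˣ) : F)) by ring, Units.inv_mul, one_mul]
  have e3 := hh' ((g : F) * -1)
  rw [e2] at e3
  set A := ι (ofAdd ((g : F) * -1))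
  set B := ι (ofAdd (g : F))
  calc w * B * w⁻¹ = h⁻¹ * (h * w * B * (h * w)⁻¹) * h := by group
    _ = h⁻¹ * (A * (h * w) * A) * h := by rw [h2]
    _ = (h⁻¹ * A * h) * (w * h) * (h⁻¹ * A * h) := by group
    _ = _ := by rw [e3, hwh']; group

open scoped Classical in
/-- fourteen relations -/
theorem short_presentation (p : ℕ) [Fact p.Prime] [Algebra (ZMod p) F] :
    ∃ rels : Finset (FreeGroup (Fin 4)), rels.card ≤ 14 ∧
      Nonempty (PresentedGroup (↑rels : Set (FreeGroup (Fin 4))) ≃*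
        Matrix.SpecialLinearGroup (Fin 3) F) := by
  obtain ⟨n, -, hn⟩ := FiniteField.card F (ringChar F)
  haveI : CharP F p := charP_of_injective_algebraMap (algebraMap (ZMod p) F).injective p
  rw [ringChar.eq F p] at hn
  obtain ⟨g0, hg0, hg, hgen⟩ := exists_generator (F := F)
  set g : Fˣ := Units.mk0 g0 hg0
  have hgo : orderOf (g : F) = Fintype.card F - 1 := hg
  have hgen' : ∀ t : F, t ≠ 0 → ∃ k : ℕ, t = (g : F) ^ k := hgen
  have hx : Algebra.adjoin (ZMod p) {(g : F) ^ 2} = ⊤ := adjoin_sq hn hgo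
  obtain ⟨fl, hfl⟩ : ∃ fl : (ZMod p)[X], aeval ((g : F) ^ 2) fl = ((g⁻¹ : Fˣ) : F) := by
    have : ((g⁻¹ : Fˣ) : F) ∈ (aeval ((g : F) ^ 2) : (ZMod p)[X] →ₐ[ZMod p] F).range := by
      rw [← Algebra.adjoin_singleton_eq_range_aeval, hx]; trivial
    exact this
  obtain ⟨X4, hX4, hX, hXG⟩ := exists_near_rels hn hgo hgen'
  rcases (Fact.out : p.Prime).eq_two_or_odd' with hp2 | hodd
  · subst hp2
    obtain ⟨L, hL, hP⟩ := even_presents hgo hgen'
    obtain ⟨rels, hr, hiso⟩ := presents_three hx hgen' hfl L hP.rel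
      (fun G _ u h w c hrel _ => by
        obtain ⟨φ, hφ⟩ := hP.exists_hom ![u, h, w] hrel
        exact ⟨φ, hφ 0, hφ 1, hφ 2⟩)
      (fun φ ψ => ext_hom_SL2 hx φ ψ) X4 hX hXG
    exact ⟨rels, by split_ifs at hX4 <;> omega, hiso⟩
  have hp2 : p ≠ 2 := by rintro rfl; exact absurd hodd (by decide)
  have h2 : (2 : F) ≠ 0 := Ring.two_ne_zero ((ringChar.eq F p).symm ▸ hp2)
  have hqodd : Odd (Fintype.card F) := hn ▸ hodd.pow
  obtain ⟨e, he⟩ := hqodd
  have h2e : Fintype.card F - 1 = 2 * e := by omega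
  have he0 : 0 < e := by have := Fintype.one_lt_card (α := F); omega
  have hge : g ^ e = -1 := by
    refine Units.ext ?_
    rw [Units.val_pow_eq_pow_val, Units.val_neg, Units.val_one]
    rcases mul_self_eq_one_iff.1 (show (g : F) ^ e * (g : F) ^ e = 1 by
      rw [← pow_add, show e + e = orderOf (g : F) by omega, pow_orderOf_eq_one]) with h | h
    · exact absurd h (pow_ne_one_of_lt_orderOf he0.ne' (by omega))
    · exact h
  let o : Fin 3 → FreeGroup (Fin 3) := FreeGroup.of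
  set Z : List (FreeGroup (Fin 3)) := [o 1 ^ e * (o 2 * o 2)⁻¹] with hZdef
  have hZw : ∀ (G : Type) [Group G] (u h w : G), w * h * w⁻¹ = h⁻¹ →
      (∀ r ∈ Z, FreeGroup.lift ![u, h, w] r = 1) →
      (∃ c : ℤ, w * w = h ^ c) ∧ h ^ (Fintype.card F - 1) = 1 ∧ h ^ (Fintype.card F - 1) = 1 := by
    intro G _ u h w hw hZ
    have hc : h ^ e = w * w := by
      have := hZ _ (List.mem_cons_self ..)
      simp only [map_mul, map_inv, map_pow, o, FreeGroup.lift_apply_of, Matrix.cons_val_one,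
        Matrix.cons_val_zero, Matrix.cons_val_two, Matrix.tail_cons, Matrix.head_cons] at this
      exact mul_inv_eq_one.1 this
    have hq : h ^ (Fintype.card F - 1) = 1 := by
      have h1 : w * h ^ e * w⁻¹ = (h ^ e)⁻¹ := by rw [← conj_pow, hw, inv_pow]
      rw [hc, show w * (w * w) * w⁻¹ = w * w by group, ← hc] at h1
      rw [h2e, two_mul, pow_add]
      exact eq_inv_iff_mul_eq_one.1 h1
    exact ⟨⟨e, by rw [zpow_natCast, hc]⟩, hq, hq⟩
  obtain ⟨CR, P, b, s1, sg, hlen, hP, hG, ⟨a1, a1', a1''⟩, ⟨ag, ag', ag''⟩, hpres⟩ :=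
    odd_presents p (MonoidHom.id (Matrix.SpecialLinearGroup (Fin 2) F)) Function.surjective_id h2 hgo
      hgen' Z (by
        simp only [hZdef, List.mem_cons, List.not_mem_nil, or_false, forall_eq, map_mul, map_inv,
          map_pow, o, FreeGroup.lift_apply_of, Matrix.cons_val_one, Matrix.cons_val_zero,
          Matrix.cons_val_two, Matrix.tail_cons, Matrix.head_cons, MonoidHom.id_apply]
        rw [mul_inv_eq_one, ← map_pow, hge, wSL_sq])
      (N := Fintype.card F - 1) (by omega) hZw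
      (by rw [card_SL2, mul_assoc, ← Nat.card_eq_fintype_card])
  set L2 := Z ++ oddRels CR P b [s1] (o 0) (o 1) (o 2)
  have hsub : ∀ r ∈ L2, r ∈ Z ++ oddRels CR P b [s1, sg] (o 0) (o 1) (o 2) := by
    intro r hr
    simp only [L2, oddRels, List.mem_append, List.mem_map, List.mem_cons, List.not_mem_nil, or_false] at hr ⊢
    rcases hr with h | h | h | ⟨s, rfl, rfl⟩
    · exact Or.inl h
    · exact Or.inr (Or.inl h)
    · exact Or.inr (Or.inr (Or.inl h))
    · exact Or.inr (Or.inr (Or.inr ⟨s, Or.inl rfl, rfl⟩))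
  have hL2 : ∀ r ∈ L2, FreeGroup.lift ![ιSL (ofAdd (1 : F)), hSL g, wSL] r = 1 :=
    fun r hr => hpres.rel r (hsub r hr)
  obtain ⟨rels, hr, hiso⟩ := presents_three hx hgen' hfl L2 hL2
    (fun G _ u h w c hrel hbase => by
      have hlo : ∀ (S : List ((ZMod p)[X] × (ZMod p)[X] × ℕ)),
          (oddRels CR P b S (o 0) (o 1) (o 2)).map (FreeGroup.lift ![u, h, w]) =
            oddRels CR P b S u h w := fun S => by rw [map_oddRels]; simp [o]
      have hodd1 : ∀ r ∈ oddRels CR P b [s1] u h w, r = 1 := by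
        intro r hr
        rw [← hlo] at hr
        obtain ⟨r', hr', rfl⟩ := List.mem_map.1 hr
        exact hrel r' (List.mem_append.2 (Or.inr hr'))
      have hu : u ^ p = 1 := hodd1 _ (by simp [oddRels])
      have h1 : cj u h 1 = wd u (h ^ b) P := mul_inv_eq_one.1 (hodd1 _ (by simp [oddRels]))
      have hw : w * h * w⁻¹ = h⁻¹ := eq_inv_of_mul_eq_one_left (hodd1 _ (by simp [oddRels]))
      obtain ⟨⟨cc, hcc⟩, hq, -⟩ := hZw G u h w hw fun r hr => hrel r (List.mem_append.2 (Or.inl hr))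
      have hk := hG G u h hu fun r hr => hodd1 _ (by
        simp only [oddRels, List.mem_append, List.mem_map]
        exact Or.inl ⟨r, hr, rfl⟩)
      obtain ⟨ι, hι1, hι⟩ := exists_iota_odd hx hP hk hu h1 hq (N := Fintype.card F - 1) (by omega) hq
      have hwd : ∀ f : (ZMod p)[X], wd u h f = ι (ofAdd (aeval ((g : F) ^ 2) f)) := fun f => by
        rw [← hι1]; exact wd_eq ι h _ hι f
      simp only [baseRels, List.forall_mem_cons] at hbase
      obtain ⟨b1, b2, b3, b4, b5, -⟩ := hbase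
      have hcomm : h * (c * h * c⁻¹) = c * h * c⁻¹ * h := mul_inv_eq_one.1 b3
      have hwk := weyl_torus hw hcc b1 b2 hcomm b4
      have hkι := weight_all ι hcomm hx hι (l := ((g⁻¹ : Fˣ) : F)) (by
        rw [hι1, ← hfl, ← hwd]; exact mul_inv_eq_one.1 b5)
      have hpow : ∀ j : ℕ, g ^ j = 1 → h ^ j = 1 := fun j hj => by
        have hd : orderOf (g : F) ∣ j := orderOf_dvd_of_pow_eq_one (by
          rw [← Units.val_pow_eq_pow_val, hj, Units.val_one])
        rw [hgo] at hd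
        obtain ⟨m, rfl⟩ := hd
        rw [pow_mul, hq, one_pow]
      have hst1 : w * ι (ofAdd 1) * w⁻¹ = ι (ofAdd (-1)) * w * ι (ofAdd (-1)) := by
        have := mul_inv_eq_one.1 (hodd1 (stRel u h w s1) (by simp [oddRels]))
        rw [hwd, hwd, a1, a1', hpow _ a1'', mul_one] at this
        exact this
      have hstg := stRel_of_weight ι hι hkι hw hwk hcomm hst1
      obtain ⟨φ, hφ⟩ := hpres.exists_hom ![u, h, w] (fun r hr => by
        rcases List.mem_append.1 hr with hr | hr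
        · exact hrel r (List.mem_append.2 (Or.inl hr))
        · have hm : FreeGroup.lift ![u, h, w] r ∈ oddRels CR P b [s1, sg] u h w := by
            rw [← hlo]; exact List.mem_map.2 ⟨r, hr, rfl⟩
          simp only [oddRels, List.mem_append, List.mem_map, List.mem_cons, List.not_mem_nil,
            or_false] at hm
          rcases hm with hm | hm | ⟨s, rfl | rfl, hs⟩
          · exact hodd1 _ (by simp only [oddRels, List.mem_append, List.mem_map]; exact Or.inl hm)
          · exact hodd1 _ (by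
              simp only [oddRels, List.mem_append, List.mem_map, List.mem_cons, List.not_mem_nil,
                or_false]
              exact Or.inr (Or.inl hm))
          · rw [← hs]; exact hodd1 _ (by simp [oddRels])
          · rw [← hs, stRel, hwd, hwd, ag, ag', mul_inv_eq_one,
              eq_inv_of_mul_eq_one_left (show h ^ s.2.2 * h = 1 by
                rw [← pow_succ]; exact hpow _ (by rw [pow_succ, ag'', inv_mul_cancel]))]
            exact hstg)
      exact ⟨φ, hφ 0, hφ 1, hφ 2⟩)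
    (fun φ ψ => ext_hom_SL2 hx φ ψ) X4 hX hXG
  refine ⟨rels, ?_, hiso⟩
  have hne4 : Fintype.card F ≠ 4 := by omega
  rw [if_neg hne4] at hX4
  simp [L2, Z, oddRels] at hr
  omega

end CfsgLib.SL3Pres
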