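import Cfsg.Agent.SL3Pres.Roots
import Cfsg.Agent.SL2Pres.Inst

/-!
Fourteen relations for `SL₃`.
-/

set_option autoImplicit false
set_option linter.unusedSectionVars false
set_option linter.unusedSimpArgs false
set_option linter.style.haveILetI false

namespace CfsgLib.SL3Pres

open Polynomial CfsgLib.SL2Pres
open Multiplicative (ofAdd)

universe v

section Words

variable {p : ℕ} {G : Type*} [Group G]

/-- the five common relators -/
noncomputable def baseRels (u h w c : G) (fl : (ZMod p)[X]) : List G :=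
  [c * c * c, c * w⁻¹ * (c * w⁻¹), h * (c * h * c⁻¹) * (c * h * c⁻¹ * h)⁻¹,
    h * (c * h * c⁻¹) * (c⁻¹ * h * c), c * h * c⁻¹ * u * (c * h * c⁻¹)⁻¹ * (wd u h fl)⁻¹]

/-- the commutator of two neighbouring root elements -/
noncomputable def nearRel (u h w c : G) (ft : (ZMod p)[X]) : G :=
  wd u h ft * (c * u * c⁻¹) *
    (c⁻¹ * (w * (wd u h ft)⁻¹ * w⁻¹) * c * (c * u * c⁻¹) * wd u h ft)⁻¹

/-- two commuting root elements -/
def farRel (u w c : G) : G :=
  u * (c⁻¹ * (w * u⁻¹ * w⁻¹) * c) * (c⁻¹ * (w * u⁻¹ * w⁻¹) * c * u)⁻¹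

theorem map_baseRels {H : Type*} [Group H] (f : G →* H) (u h w c : G) (fl : (ZMod p)[X]) :
    (baseRels u h w c fl).map f = baseRels (f u) (f h) (f w) (f c) fl := by
  simp [baseRels, map_wd]

theorem map_nearRel {H : Type*} [Group H] (f : G →* H) (u h w c : G) (ft : (ZMod p)[X]) :
    f (nearRel u h w c ft) = nearRel (f u) (f h) (f w) (f c) ft := by
  simp [nearRel, map_wd]

theorem map_farRel {H : Type*} [Group H] (f : G →* H) (u w c : G) :
    f (farRel u w c) = farRel (f u) (f w) (f c) := by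
  simp [farRel]

end Words

variable {p : ℕ} [Fact p.Prime] {F : Type v} [Field F] [Fintype F] [Algebra (ZMod p) F]

/-- away from four elements the cubes of the generator generate -/
theorem adjoin_cube {n : ℕ} (hn : Fintype.card F = p ^ n) {g : F}
    (hg : orderOf g = Fintype.card F - 1) (h4 : Fintype.card F ≠ 4) :
    Algebra.adjoin (ZMod p) {g ^ 3} = ⊤ := by
  refine adjoin_eq_top hn fun k hk hkn hlt e => ?_
  have hp : p.Prime := Fact.out
  have h1 : 2 ≤ p ^ k := le_trans hp.two_le (Nat.le_self_pow hk.ne' p)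
  have h2 : p ^ k * p ^ k ∣ p ^ n ∨ p ^ k * p ^ k ≤ p ^ n := by
    refine Or.inr ?_
    rw [← pow_add]
    obtain ⟨c, rfl⟩ := hkn
    refine Nat.pow_le_pow_right hp.pos ?_
    rcases c with - | - | c <;> simp_all <;> nlinarith
  have h2' : p ^ k * p ^ k ≤ p ^ n := h2.elim (fun h => Nat.le_of_dvd (pow_pos hp.pos _) h) id
  have hg0 : g ≠ 0 := fun h => by
    rw [h, orderOf_zero] at hg
    have := Fintype.one_lt_card (α := F)
    omega
  have h3 : orderOf g ∣ 3 * (p ^ k - 1) :=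
    orderOf_dvd_of_pow_eq_one (mul_right_cancel₀ (pow_ne_zero 3 hg0) (by
      rw [one_mul, ← pow_add, show 3 * (p ^ k - 1) + 3 = 3 * p ^ k by omega, pow_mul, e]))
  have h5 := Nat.le_of_dvd (by omega) h3
  rw [hg, hn] at h5
  rw [hn] at h4
  obtain ⟨Q, hQ⟩ : ∃ Q, p ^ k = Q + 1 := ⟨p ^ k - 1, by omega⟩
  rw [hQ, Nat.add_sub_cancel] at h5
  rw [hQ] at h2' h1
  have h6 : (Q + 1) * (Q + 1) ≤ 3 * Q + 1 := by omega
  have hQ1 : Q = 1 := by nlinarith
  subst hQ1
  omega

open scoped Classical in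
/-- the common part: a group with the relations is `SL₃` -/
theorem presents_three {g : Fˣ} (hx : Algebra.adjoin (ZMod p) {(g : F) ^ 2} = ⊤)
    (hgen : ∀ t : F, t ≠ 0 → ∃ k : ℕ, t = (g : F) ^ k) {fl : (ZMod p)[X]}
    (hfl : aeval ((g : F) ^ 2) fl = ((g⁻¹ : Fˣ) : F)) (L2 : List (FreeGroup (Fin 3)))
    (hL2 : ∀ r ∈ L2, FreeGroup.lift ![ιSL (ofAdd (1 : F)), hSL g, wSL] r = 1)
    (hhom : ∀ (G : Type) [Group G] (u h w c : G),
      (∀ r ∈ L2, FreeGroup.lift ![u, h, w] r = 1) → (∀ r ∈ baseRels u h w c fl, r = 1) →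
      ∃ φ : Matrix.SpecialLinearGroup (Fin 2) F →* G,
        φ (ιSL (ofAdd (1 : F))) = u ∧ φ (hSL g) = h ∧ φ wSL = w)
    (hext : ∀ {T : Type v} [Group T] (φ ψ : Matrix.SpecialLinearGroup (Fin 2) F →* T),
      φ (ιSL (ofAdd (1 : F))) = ψ (ιSL (ofAdd (1 : F))) → φ (hSL g) = ψ (hSL g) → φ wSL = ψ wSL →
        φ = ψ)
    (X4 : List (FreeGroup (Fin 4)))
    (hX : ∀ r ∈ X4, FreeGroup.lift
      ![emb3 (ιSL (ofAdd (1 : F))), emb3 (hSL g), emb3 wSL, c3] r = 1)
    (hXG : ∀ (G : Type) [Group G] (R : Data F G g),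
      (∀ r ∈ X4, FreeGroup.lift ![R.φ (ιSL (ofAdd (1 : F))), R.φ (hSL g), R.φ wSL, R.c] r = 1) →
      ∀ t, R.a t * R.e 1 = R.d t * R.e 1 * R.a t) :
    ∃ rels : Finset (FreeGroup (Fin 4)), rels.card ≤ L2.length + 5 + X4.length ∧
      Nonempty (PresentedGroup (↑rels : Set (FreeGroup (Fin 4))) ≃*
        Matrix.SpecialLinearGroup (Fin 3) F) := by
  let o : Fin 4 → FreeGroup (Fin 4) := FreeGroup.of
  let L := L2.map (FreeGroup.lift ![o 0, o 1, o 2]) ++ baseRels (o 0) (o 1) (o 2) (o 3) fl ++ X4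
  refine ⟨L.toFinset, (List.toFinset_card_le L).trans (by simp [L, baseRels]; omega), ?_⟩
  set S : Set (FreeGroup (Fin 4)) := ↑L.toFinset
  let f3 : Fin 4 → Matrix.SpecialLinearGroup (Fin 3) F :=
    ![emb3 (ιSL (ofAdd (1 : F))), emb3 (hSL g), emb3 wSL, c3]
  have hl2 : ∀ {T : Type v} [Group T] (f : Fin 4 → T) (r : FreeGroup (Fin 3)),
      FreeGroup.lift f (FreeGroup.lift ![o 0, o 1, o 2] r) = FreeGroup.lift ![f 0, f 1, f 2] r := by
    intro T _ f r
    have : (FreeGroup.lift f).comp (FreeGroup.lift ![o 0, o 1, o 2]) = FreeGroup.lift ![f 0, f 1, f 2] :=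
      FreeGroup.ext_hom _ _ fun i => by fin_cases i <;> simp [o]
    exact DFunLike.congr_fun this r
  have hcur : ∀ (T : Type v) [Group T] (ι : Multiplicative F →* T) (h : T),
      (∀ s, h * ι (ofAdd s) * h⁻¹ = ι (ofAdd ((g : F) ^ 2 * s))) → ∀ f : (ZMod p)[X],
      wd (ι (ofAdd 1)) h f = ι (ofAdd (aeval ((g : F) ^ 2) f)) := fun T _ ι h hh => wd_eq ι h _ hh
  have hbase : ∀ r ∈ baseRels (f3 0) (f3 1) (f3 2) (f3 3) fl, r = 1 := by
    intro r hr
    simp only [baseRels, List.mem_cons, List.not_mem_nil, or_false] at hr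
    rcases hr with rfl | rfl | rfl | rfl | rfl
    · exact c3_cube
    · exact rel_rw
    · exact mul_inv_eq_one.2 (rel_torus g)
    · exact rel_prod g
    · rw [mul_inv_eq_one, mul_inv_eq_iff_eq_mul,
        show f3 0 = (emb3.comp ιSL) (ofAdd (1 : F)) from rfl,
        hcur _ (emb3.comp ιSL) (f3 1) (fun s => by
          show emb3 _ * emb3 _ * (emb3 _)⁻¹ = emb3 _
          rw [← map_inv, ← map_mul, ← map_mul, hSL_conj]) fl, hfl]
      exact rel_weight g
  have hS : ∀ r ∈ S, FreeGroup.lift f3 r = 1 := by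
    intro r hr
    simp only [S, List.coe_toFinset, Set.mem_setOf_eq, L, List.mem_append, List.mem_map] at hr
    rcases hr with (⟨r', hr', rfl⟩ | hr) | hr
    · rw [hl2]
      have : FreeGroup.lift ![f3 0, f3 1, f3 2] =
          (emb3 (F := F)).comp (FreeGroup.lift ![ιSL (ofAdd (1 : F)), hSL g, wSL]) :=
        FreeGroup.ext_hom _ _ fun i => by fin_cases i <;> simp [f3]
      rw [this, MonoidHom.comp_apply, hL2 r' hr', map_one]
    · refine hbase _ ?_
      have e := map_baseRels (FreeGroup.lift f3) (o 0) (o 1) (o 2) (o 3) fl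
      simp only [o, FreeGroup.lift_apply_of] at e
      rw [← e]
      exact List.mem_map.2 ⟨r, hr, rfl⟩
    · exact hX r hr
  let π := PresentedGroup.toGroup hS
  let q := PresentedGroup.mk S
  have hq : ∀ r ∈ L, q r = 1 := fun r hr => PresentedGroup.one_of_mem (by simpa [S] using hr)
  have hq2 : ∀ r ∈ L2, FreeGroup.lift ![q (o 0), q (o 1), q (o 2)] r = 1 := fun r hr => by
    have : FreeGroup.lift ![q (o 0), q (o 1), q (o 2)] = q.comp (FreeGroup.lift ![o 0, o 1, o 2]) :=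
      FreeGroup.ext_hom _ _ fun i => by fin_cases i <;> simp [o]
    rw [this]
    exact hq _ (List.mem_append.2 (Or.inl (List.mem_append.2 (Or.inl (List.mem_map.2 ⟨r, hr, rfl⟩)))))
  have hqb : ∀ r ∈ baseRels (q (o 0)) (q (o 1)) (q (o 2)) (q (o 3)) fl, r = 1 := by
    intro r hr
    rw [← map_baseRels] at hr
    obtain ⟨r', hr', rfl⟩ := List.mem_map.1 hr
    exact hq r' (List.mem_append.2 (Or.inl (List.mem_append.2 (Or.inr hr'))))
  obtain ⟨φ, hu, hh, hw⟩ := hhom _ _ _ _ (q (o 3)) hq2 hqb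
  have hι : ∀ s, φ (hSL g) * φ (ιSL (ofAdd s)) * (φ (hSL g))⁻¹ =
      φ (ιSL (ofAdd ((g : F) ^ 2 * s))) := fun s => by
    rw [← map_inv, ← map_mul, ← map_mul, hSL_conj]
  have hwd : wd (φ (ιSL (ofAdd (1 : F)))) (φ (hSL g)) fl = φ (ιSL (ofAdd ((g⁻¹ : Fˣ) : F))) := by
    rw [← hfl]
    exact wd_eq (φ.comp ιSL) (φ (hSL g)) ((g : F) ^ 2) hι fl
  simp only [baseRels, List.forall_mem_cons] at hqb
  rw [← hu, ← hh, ← hw, hwd] at hqb
  obtain ⟨b1, b2, b3, b4, b5, -⟩ := hqb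
  let R : Data F (PresentedGroup S) g :=
    { φ := φ
      c := q (o 3)
      hc := b1
      rw' := b2
      comm := mul_inv_eq_one.1 b3
      prod := b4
      weight := mul_inv_eq_one.1 b5 }
  have hw2 : ∃ k : ℤ, R.φ wSL * R.φ wSL = R.φ (hSL g) ^ k := by
    obtain ⟨k, hk⟩ := hgen (-1) (neg_ne_zero.2 one_ne_zero)
    refine ⟨k, ?_⟩
    rw [zpow_natCast, ← map_mul, wSL_sq, ← map_pow, ← map_pow,
      show g ^ k = -1 from Units.ext (by rw [Units.val_pow_eq_pow_val, ← hk]; simp)]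
  have hN := R.near_all hx hw2 hgen (hXG _ R fun r hr => by
    have : FreeGroup.lift ![R.φ (ιSL (ofAdd (1 : F))), R.φ (hSL g), R.φ wSL, R.c] = q :=
      FreeGroup.ext_hom _ _ fun i => by fin_cases i <;> simp [R, hu, hh, hw, o]
    rw [this]
    exact hq r (List.mem_append.2 (Or.inr hr)))
  have hπo : ∀ i, π (q (o i)) = f3 i := fun i => PresentedGroup.toGroup.of hS
  have hπφ : π.comp φ = emb3 := hext _ _
    (by rw [MonoidHom.comp_apply, hu, hπo]; rfl) (by rw [MonoidHom.comp_apply, hh, hπo]; rfl)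
    (by rw [MonoidHom.comp_apply, hw, hπo]; rfl)
  refine ⟨MulEquiv.ofBijective π (R.bijective hN (R.near_two hx hw2 hgen hN) π
    (fun A => DFunLike.congr_fun hπφ A) (hπo 3) fun K hK hc => ?_)⟩
  rw [eq_top_iff, ← PresentedGroup.closure_range_of, Subgroup.closure_le]
  rintro _ ⟨i, rfl⟩
  fin_cases i
  · have := hK (ιSL (ofAdd (1 : F)))
    rwa [show R.φ _ = _ from hu] at this
  · have := hK (hSL g)
    rwa [show R.φ _ = _ from hh] at this
  · have := hK wSL
    rwa [show R.φ _ = _ from hw] at this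
  · exact hc

end CfsgLib.SL3Pres
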