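import Cfsg.Agent.SL3Pres.Derive
import Cfsg.Agent.SL3Pres.Target
import Cfsg.Agent.An.Lift

/-!
The root groups of all positions.
-/

set_option autoImplicit false
set_option linter.unusedSectionVars false
set_option linter.unusedSimpArgs false
set_option linter.style.haveILetI false

namespace CfsgLib.SL3Pres

open Matrix CfsgLib.SL2Pres
open Multiplicative (ofAdd)

variable {p : ℕ} [Fact p.Prime] {F : Type*} [Field F] [Algebra (ZMod p) F] {G : Type*} [Group G]
  {g : Fˣ}

local notation "S3" => SpecialLinearGroup (Fin 3) F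

namespace Data

variable (R : Data F G g)

/-- the root group of a position -/
def x (i j : Fin 3) (t : F) : G :=
  R.c ^ (i : ℕ) * (if j = i + 1 then R.a t else R.d t) * (R.c ^ (i : ℕ))⁻¹

theorem x01 (t : F) : R.x 0 1 t = R.a t := by simp [x]

theorem x02 (t : F) : R.x 0 2 t = R.d t := by
  simp [x, show ((2 : Fin 3) = 1) = False from eq_false (by decide)]

theorem x12 (t : F) : R.x 1 2 t = R.e t := by
  simp [x, e, show ((1 : Fin 3) + 1) = 2 from rfl]

theorem x10 (t : F) : R.x 1 0 t = R.b t := by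
  simp only [x, show ((0 : Fin 3) = 1 + 1) = False from eq_false (by decide), if_false,
    show ((1 : Fin 3) : ℕ) = 1 from rfl, pow_one, d]
  group

theorem x_rot (i j : Fin 3) (t : F) : R.x (i + 1) (j + 1) t = R.c * R.x i j t * R.c⁻¹ := by
  have h3 : R.c ^ 3 = 1 := by rw [pow_succ, pow_two, R.hc]
  have hp : R.c ^ ((i + 1 : Fin 3) : ℕ) = R.c * R.c ^ (i : ℕ) := by
    rw [← pow_succ']
    fin_cases i
    · rfl
    · rfl
    · show R.c ^ 0 = R.c ^ 3
      rw [h3, pow_zero]
  have hiff : (j + 1 = i + 1 + 1) ↔ (j = i + 1) := add_left_inj 1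
  simp only [x, hp, hiff]
  group

theorem x_add (i j : Fin 3) (t u : F) : R.x i j (t + u) = R.x i j t * R.x i j u := by
  unfold x
  split_ifs
  · rw [← R.a_add]; group
  · rw [← R.d_add]; group

variable (hnear : ∀ t u, R.a t * R.e u = R.d (t * u) * R.e u * R.a t)
  (htwo : ∀ t u, R.b t * R.d u = R.e (t * u) * R.d u * R.b t)
include hnear htwo

theorem x_near (i j l : Fin 3) (h1 : i ≠ j) (h2 : j ≠ l) (h3 : i ≠ l) (t u : F) :
    R.x i j t * R.x j l u = R.x i l (t * u) * R.x j l u * R.x i j t := by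
  have step : ∀ i j l : Fin 3,
      (∀ t u, R.x i j t * R.x j l u = R.x i l (t * u) * R.x j l u * R.x i j t) →
      ∀ t u, R.x (i + 1) (j + 1) t * R.x (j + 1) (l + 1) u =
        R.x (i + 1) (l + 1) (t * u) * R.x (j + 1) (l + 1) u * R.x (i + 1) (j + 1) t := by
    intro i j l h t u
    simp only [R.x_rot]
    calc R.c * R.x i j t * R.c⁻¹ * (R.c * R.x j l u * R.c⁻¹)
        = R.c * (R.x i j t * R.x j l u) * R.c⁻¹ := by group
      _ = R.c * (R.x i l (t * u) * R.x j l u * R.x i j t) * R.c⁻¹ := by rw [h]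
      _ = _ := by group
  have hA : ∀ t u, R.x 0 1 t * R.x 1 2 u = R.x 0 2 (t * u) * R.x 1 2 u * R.x 0 1 t := by
    intro t u; rw [R.x01, R.x12, R.x02]; exact hnear t u
  have hB : ∀ t u, R.x 1 0 t * R.x 0 2 u = R.x 1 2 (t * u) * R.x 0 2 u * R.x 1 0 t := by
    intro t u; rw [R.x10, R.x12, R.x02]; exact htwo t u
  have hA1 := step _ _ _ hA
  have hA2 := step _ _ _ hA1
  have hB1 := step _ _ _ hB
  have hB2 := step _ _ _ hB1
  fin_cases i <;> fin_cases j <;> fin_cases l <;>
    first
    | exact absurd rfl h1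
    | exact absurd rfl h2
    | exact absurd rfl h3
    | exact hA t u
    | exact hB t u
    | exact hA1 t u
    | exact hA2 t u
    | exact hB1 t u
    | exact hB2 t u

theorem x_far (i j k l : Fin 3) (h1 : i ≠ j) (h2 : k ≠ l) (h3 : i ≠ l) (h4 : j ≠ k) (t u : F) :
    Commute (R.x i j t) (R.x k l u) := by
  have cases : (k = i ∧ l = j) ∨ (k = i ∧ l ≠ i ∧ l ≠ j) ∨ (l = j ∧ k ≠ i ∧ k ≠ j) := by
    revert i j k l; decide
  have row : ∀ i j m : Fin 3, i ≠ j → j ≠ m → i ≠ m → ∀ t u, Commute (R.x i j t) (R.x i m u) := by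
    intro i j m e1 e2 e3 t u
    have H := R.x_near hnear htwo i j m e1 e2 e3
    have h := H (t + 1) u
    rw [R.x_add i j, mul_assoc, H 1 u, ← mul_assoc, ← mul_assoc,
      add_mul, one_mul, add_comm (t * u), R.x_add i m, mul_assoc (R.x i m u) (R.x i m (t * u)),
      mul_assoc (R.x i m u)] at h
    rw [show R.x i m u * (R.x i m (t * u) * R.x j m u * (R.x i j t * R.x i j 1)) =
      R.x i m u * ((R.x i m (t * u) * R.x j m u * R.x i j t) * R.x i j 1) by group, ← H t u] at h
    refine mul_right_cancel (b := R.x j m u) (mul_right_cancel (b := R.x i j 1) ?_)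
    rw [h]
    group
  have col : ∀ i j m : Fin 3, i ≠ j → j ≠ m → i ≠ m → ∀ u v, Commute (R.x j m u) (R.x i m v) := by
    intro i j m e1 e2 e3 u v
    have H := R.x_near hnear htwo i j m e1 e2 e3
    have h := H 1 (u + v)
    rw [one_mul, R.x_add j m, ← mul_assoc, H 1 u, mul_assoc _ (R.x i j 1), H 1 v, one_mul, one_mul,
      R.x_add i m] at h
    show R.x j m u * R.x i m v = R.x i m v * R.x j m u
    refine mul_left_cancel (a := R.x i m u) (mul_right_cancel (b := R.x j m v)
      (mul_right_cancel (b := R.x i j 1) ?_))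
    calc R.x i m u * (R.x j m u * R.x i m v) * R.x j m v * R.x i j 1
        = R.x i m u * R.x j m u * (R.x i m v * R.x j m v * R.x i j 1) := by group
      _ = R.x i m u * R.x i m v * (R.x j m u * R.x j m v) * R.x i j 1 := h
      _ = _ := by group
  rcases cases with ⟨rfl, rfl⟩ | ⟨rfl, e1, e2⟩ | ⟨rfl, e1, e2⟩
  · show _ * _ = _ * _
    rw [← R.x_add, ← R.x_add, add_comm]
  · exact row _ _ _ h1 e2.symm e1.symm t u
  · exact col k i _ e1 h1 h2 t u

omit hnear htwo in
theorem emb3_c3_map {π : G →* S3} (hπφ : ∀ A, π (R.φ A) = emb3 A) (hπc : π R.c = c3) (i j : Fin 3)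
    (h : i ≠ j) (t : F) : π (R.x i j t) = SpecialLinearGroup.transvection h t := by
  have hrot : ∀ (i j : Fin 3) (h : i ≠ j), π (R.x i j t) = SpecialLinearGroup.transvection h t →
      π (R.x (i + 1) (j + 1) t) =
        SpecialLinearGroup.transvection (fun e => h (add_left_inj 1 |>.1 e)) t := by
    intro i j h e
    rw [R.x_rot, map_mul, map_mul, map_inv, hπc, e]
    refine Subtype.ext ?_
    show (c3 : S3).1 * (SpecialLinearGroup.transvection h t).1 * ((c3 : S3)⁻¹).1 =
      (SpecialLinearGroup.transvection (fun e => h (add_left_inj 1 |>.1 e) : i + 1 ≠ j + 1) t).1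
    rw [c3_val, c3_inv, SpecialLinearGroup.transvection_coe, SpecialLinearGroup.transvection_coe]
    fin_cases i <;> fin_cases j <;> (try exact absurd rfl h) <;>
      (ext a b; fin_cases a <;> fin_cases b <;>
        simp [Matrix.transvection, Matrix.mul_apply, Fin.sum_univ_three, Matrix.single_apply, Matrix.one_apply, Matrix.vecMul, dotProduct])
  have hA : π (R.x 0 1 t) = SpecialLinearGroup.transvection (zero_ne_one) t := by
    rw [R.x01, a, hπφ]
    refine Subtype.ext ?_
    rw [emb3_up, SpecialLinearGroup.transvection_coe]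
    ext a b; fin_cases a <;> fin_cases b <;> simp [Matrix.transvection, Matrix.single_apply]
  have hB : π (R.x 0 2 t) = SpecialLinearGroup.transvection (show (0 : Fin 3) ≠ 2 by decide) t := by
    rw [R.x02, d, b, map_mul, map_mul, map_inv, hπφ, hπc]
    refine Subtype.ext ?_
    rw [c3_inv_conj_emb, SpecialLinearGroup.transvection_coe,
      show (StPres.low t).1 = !![1, 0; t, 1] from rfl]
    ext a b; fin_cases a <;> fin_cases b <;> simp [Matrix.transvection, Matrix.single_apply]
  have hA1 := hrot _ _ _ hA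
  have hA2 := hrot _ _ _ hA1
  have hB1 := hrot _ _ _ hB
  have hB2 := hrot _ _ _ hB1
  fin_cases i <;> fin_cases j <;>
    first
    | exact absurd rfl h
    | exact hA
    | exact hB
    | exact hA1
    | exact hA2
    | exact hB1
    | exact hB2

variable [Finite F]

omit hnear htwo in
/-- the relations force `SL₃` -/
theorem bijective (hnear : ∀ t u, R.a t * R.e u = R.d (t * u) * R.e u * R.a t)
    (htwo : ∀ t u, R.b t * R.d u = R.e (t * u) * R.d u * R.b t) (π : G →* S3)
    (hπφ : ∀ A, π (R.φ A) = emb3 A) (hπc : π R.c = c3)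
    (htop : ∀ K : Subgroup G, (∀ A, R.φ A ∈ K) → R.c ∈ K → K = ⊤) : Function.Bijective π := by
  obtain ⟨ψ, hψ⟩ := CfsgLib.An.exists_hom (M := G) le_rfl R.x (fun i j _ t u => R.x_add i j t u)
    (R.x_far hnear htwo) (fun i j l h1 h2 h3 t u => by
      rw [R.x_near hnear htwo i j l h1 h2 h3]; group)
  have h1 : ∀ y, π (ψ y) = y := fun y => by
    induction y using CfsgLib.Linear.transvection_induction with
    | htransvec i j h t => rw [hψ i j h, R.emb3_c3_map hπφ hπc i j h]
    | hmul A B hA hB => rw [map_mul, map_mul, hA, hB]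
  have hK : ψ.range = ⊤ := by
    have ha : ∀ A, R.φ A ∈ ψ.range := fun A => by
      obtain ⟨a, b, c, d, rfl⟩ := StPres.exists_word A
      have hu : ∀ s, R.φ (StPres.up s) ∈ ψ.range := fun s =>
        ⟨_, (hψ 0 1 zero_ne_one s).trans (R.x01 s)⟩
      have hl : ∀ s, R.φ (StPres.low s) ∈ ψ.range := fun s =>
        ⟨_, (hψ 1 0 one_ne_zero s).trans (R.x10 s)⟩
      rw [map_mul, map_mul, map_mul]
      exact mul_mem (mul_mem (mul_mem (hu a) (hl b)) (hu c)) (hl d)
    have hrot : ∀ y ∈ ψ.range, R.c * y * R.c⁻¹ ∈ ψ.range := by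
      rintro _ ⟨y, rfl⟩
      induction y using CfsgLib.Linear.transvection_induction with
      | htransvec i j h t =>
        rw [hψ i j h, ← R.x_rot]
        exact ⟨_, hψ (i + 1) (j + 1) (fun e => h (add_left_inj 1 |>.1 e)) t⟩
      | hmul A B hA hB =>
        have := mul_mem hA hB
        rw [map_mul]
        simpa [mul_assoc] using this
    refine htop _ ha ?_
    set w := R.φ wSL
    have e1 : R.c * R.c = w * (R.c⁻¹ * w * R.c) := by
      calc R.c * R.c = R.c * R.c * ((R.c⁻¹ * w⁻¹ * R.c) * w⁻¹ * (w * (R.c⁻¹ * w * R.c))) := by group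
        _ = (R.c * w⁻¹ * (R.c * w⁻¹)) * (w * (R.c⁻¹ * w * R.c)) := by group
        _ = _ := by rw [R.rw', one_mul]
    have e2 : R.c⁻¹ = R.c * R.c := inv_eq_of_mul_eq_one_right (by rw [← mul_assoc, R.hc])
    have h2 : R.c⁻¹ * w * R.c ∈ ψ.range := by
      have := hrot _ (hrot _ (ha wSL))
      rw [e2]
      rw [show R.c * (R.c * w * R.c⁻¹) * R.c⁻¹ = R.c * R.c * w * (R.c⁻¹ * R.c⁻¹) by group,
        show R.c⁻¹ * R.c⁻¹ = R.c by
          calc R.c⁻¹ * R.c⁻¹ = R.c⁻¹ * R.c⁻¹ * (R.c * R.c * R.c) := by rw [R.hc, mul_one]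
            _ = R.c := by group] at this
      exact this
    rw [← inv_inv R.c, e2, e1]
    exact inv_mem (mul_mem (ha wSL) h2)
  refine ⟨fun y z e => ?_, fun y => ⟨ψ y, h1 y⟩⟩
  obtain ⟨y', rfl⟩ : y ∈ ψ.range := by rw [hK]; trivial
  obtain ⟨z', rfl⟩ : z ∈ ψ.range := by rw [hK]; trivial
  rw [h1, h1] at e
  rw [e]

end Data

end CfsgLib.SL3Pres
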